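import Cfsg.Agent.Co2Type.Quad

/-!
# F4 of S2491: the index of `C_{Q/⟨z⟩}(h)` (helper486)

`Q` a large extraspecial subgroup with centre `⟨z⟩`, `cen L h = {x ∈ Q | [h, x] ∈ ⟨z⟩}`, `idx L h` its index in `Q`.

* `idx_mul`, `idx_conj`, `idx_inv`, `idx_comm` : `idx [h, k] ≤ (idx h) ^ 2`;
* `chain` : lower bounds of the index from a unitriangular list of commutators.
-/

set_option autoImplicit false
set_option linter.unusedSectionVars false

namespace Cfsg.Agent.H486.F4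

open Cfsg.Agent.Co2Type.Quad (Large)

variable {G : Type*} [Group G] {Q : Subgroup G} {z : G}

theorem zinv (L : Large Q z) : z⁻¹ = z := inv_eq_of_mul_eq_one_right L.z_sq

/-- `{x ∈ Q | [h, x] ∈ ⟨z⟩}` -/
def cen (L : Large Q z) (h : G) : Subgroup G where
  carrier := {x | x ∈ Q ∧ (h * x * h⁻¹ = x ∨ h * x * h⁻¹ = x * z)}
  one_mem' := ⟨Q.one_mem, Or.inl (by group)⟩
  mul_mem' := by
    rintro x y ⟨hx, hx'⟩ ⟨hy, hy'⟩
    refine ⟨Q.mul_mem hx hy, ?_⟩
    have e : h * (x * y) * h⁻¹ = (h * x * h⁻¹) * (h * y * h⁻¹) := by group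
    have hz := L.comm_z y hy
    rcases hx' with hx' | hx' <;> rcases hy' with hy' | hy' <;> rw [e, hx', hy']
    · exact Or.inl rfl
    · right; rw [mul_assoc]
    · right; rw [mul_assoc, ← hz, ← mul_assoc]
    · left
      calc x * z * (y * z) = x * (z * y) * z := by group
        _ = x * y * (z * z) := by rw [← hz]; group
        _ = x * y := by rw [L.z_sq, mul_one]
  inv_mem' := by
    rintro x ⟨hx, hx'⟩
    refine ⟨Q.inv_mem hx, ?_⟩
    have e : h * x⁻¹ * h⁻¹ = (h * x * h⁻¹)⁻¹ := by group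
    rcases hx' with hx' | hx' <;> rw [e, hx']
    · exact Or.inl rfl
    · right
      rw [mul_inv_rev, zinv L]
      exact (L.comm_z _ (Q.inv_mem hx)).symm

theorem mem_cen {L : Large Q z} {h x : G} : x ∈ cen L h ↔ x ∈ Q ∧ (h * x * h⁻¹ = x ∨ h * x * h⁻¹ = x * z) :=
  Iff.rfl

theorem cen_le (L : Large Q z) (h : G) : cen L h ≤ Q := fun _ hx => hx.1

/-- the index -/
noncomputable def idx (L : Large Q z) (h : G) : ℕ := (cen L h).relIndex Q

variable [Finite Q]

theorem idx_pos (L : Large Q z) (h : G) : 0 < idx L h := by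
  have : Finite (Q ⧸ (cen L h).subgroupOf Q) := inferInstance
  exact Nat.pos_of_ne_zero (Subgroup.index_ne_zero_of_finite)

theorem idx_mul_card (L : Large Q z) (h : G) : idx L h * Nat.card (cen L h) = Nat.card Q := by
  have h1 := Subgroup.card_mul_index ((cen L h).subgroupOf Q)
  have h2 : Nat.card ((cen L h).subgroupOf Q) = Nat.card (cen L h) :=
    Nat.card_congr (Subgroup.subgroupOfEquivOfLe (cen_le L h)).toEquiv
  rw [h2] at h1
  rw [mul_comm]
  exact h1

theorem relIndex_anti {A B : Subgroup G} (h : A ≤ B) : B.relIndex Q ≤ A.relIndex Q := by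
  have : Finite (Q ⧸ A.subgroupOf Q) := inferInstance
  exact Subgroup.relIndex_le_of_le_left h (Subgroup.index_ne_zero_of_finite)

theorem idx_mul (L : Large Q z) {h k : G} (hz : h * z = z * h) : idx L (h * k) ≤ idx L h * idx L k := by
  refine le_trans (relIndex_anti (A := cen L h ⊓ cen L k) ?_) Subgroup.relIndex_inf_le
  rintro x ⟨⟨hx, h1⟩, -, h2⟩
  refine ⟨hx, ?_⟩
  have e : h * k * x * (h * k)⁻¹ = h * (k * x * k⁻¹) * h⁻¹ := by group
  have e2 : h * z * h⁻¹ = z := by rw [hz]; group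
  rcases h2 with h2 | h2
  · rw [e, h2]; exact h1
  · have e3 : h * (x * z) * h⁻¹ = (h * x * h⁻¹) * z := by
      calc h * (x * z) * h⁻¹ = (h * x * h⁻¹) * (h * z * h⁻¹) := by group
        _ = _ := by rw [e2]
    rw [e, h2, e3]
    rcases h1 with h1 | h1
    · right; rw [h1]
    · left; rw [h1, mul_assoc, L.z_sq, mul_one]

theorem card_cen_conj (L : Large Q z) {k : G} (hk : k * z = z * k) (h : G) :
    Nat.card (cen L (k * h * k⁻¹)) = Nat.card (cen L h) := by
  have e : cen L (k * h * k⁻¹) = (cen L h).map (MulAut.conj k).toMonoidHom := by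
    have ez : k * z * k⁻¹ = z := by rw [hk]; group
    have hk' : k⁻¹ * z = z * k⁻¹ := by
      rw [inv_mul_eq_iff_eq_mul, ← mul_assoc, hk, mul_assoc, mul_inv_cancel, mul_one]
    have ez' : k⁻¹ * z * k = z := by rw [hk']; group
    ext x
    constructor
    · rintro ⟨hx, h1⟩
      refine ⟨k⁻¹ * x * k, ⟨by simpa using L.conj_mem k⁻¹ hk' x hx, ?_⟩, ?_⟩
      · have e1 : h * (k⁻¹ * x * k) * h⁻¹ = k⁻¹ * (k * h * k⁻¹ * x * (k * h * k⁻¹)⁻¹) * k := by group
        rw [e1]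
        rcases h1 with h1 | h1
        · left; rw [h1]
        · right; rw [h1]
          calc k⁻¹ * (x * z) * k = (k⁻¹ * x * k) * (k⁻¹ * z * k) := by group
            _ = _ := by rw [ez']
      · show k * (k⁻¹ * x * k) * k⁻¹ = x
        group
    · rintro ⟨y, ⟨hy, h1⟩, rfl⟩
      refine ⟨L.conj_mem k hk y hy, ?_⟩
      show k * h * k⁻¹ * (k * y * k⁻¹) * (k * h * k⁻¹)⁻¹ = k * y * k⁻¹ ∨
        k * h * k⁻¹ * (k * y * k⁻¹) * (k * h * k⁻¹)⁻¹ = k * y * k⁻¹ * z
      have e1 : k * h * k⁻¹ * (k * y * k⁻¹) * (k * h * k⁻¹)⁻¹ = k * (h * y * h⁻¹) * k⁻¹ := by group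
      rw [e1]
      rcases h1 with h1 | h1
      · left; rw [h1]
      · right; rw [h1]
        calc k * (y * z) * k⁻¹ = (k * y * k⁻¹) * (k * z * k⁻¹) := by group
          _ = _ := by rw [ez]
  rw [e]
  exact Nat.card_congr (Subgroup.equivMapOfInjective _ _ (MulAut.conj k).injective).symm.toEquiv

theorem idx_conj (L : Large Q z) {k : G} (hk : k * z = z * k) (h : G) : idx L (k * h * k⁻¹) = idx L h := by
  have h1 := idx_mul_card L (k * h * k⁻¹)
  have h2 := idx_mul_card L h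
  rw [card_cen_conj L hk, ← h2] at h1
  have : Finite (cen L h) := Finite.of_injective _ (Subgroup.inclusion_injective (cen_le L h))
  exact Nat.eq_of_mul_eq_mul_right Nat.card_pos h1

theorem cen_inv (L : Large Q z) {h : G} (hz : h * z = z * h) : cen L h⁻¹ = cen L h := by
  have key : ∀ {h : G}, h * z = z * h → cen L h ≤ cen L h⁻¹ := by
    intro h hz x hx
    obtain ⟨hx, h1⟩ := hx
    refine ⟨hx, ?_⟩
    have e : h⁻¹ * z * h = z := by
      rw [mul_assoc, ← hz]; group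
    rcases h1 with h1 | h1
    · left
      calc h⁻¹ * x * (h⁻¹)⁻¹ = h⁻¹ * (h * x * h⁻¹) * h := by rw [h1]; group
        _ = x := by group
    · right
      have h2 : h⁻¹ * (h * x * h⁻¹) * h = (h⁻¹ * x * h) * (h⁻¹ * z * h) := by rw [h1]; group
      rw [e] at h2
      have h3 : x = (h⁻¹ * x * h) * z := by rw [← h2]; group
      calc h⁻¹ * x * (h⁻¹)⁻¹ = (h⁻¹ * x * h) * (z * z) := by rw [L.z_sq]; group
        _ = ((h⁻¹ * x * h) * z) * z := by group
        _ = x * z := by rw [← h3]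
  refine le_antisymm ?_ (key hz)
  have hz' : h⁻¹ * z = z * h⁻¹ := by
    rw [inv_mul_eq_iff_eq_mul, ← mul_assoc, hz, mul_assoc, mul_inv_cancel, mul_one]
  have := key hz'
  rwa [inv_inv] at this

theorem idx_inv (L : Large Q z) {h : G} (hz : h * z = z * h) : idx L h⁻¹ = idx L h := by
  unfold idx; rw [cen_inv L hz]

/-- `idx [h, k] ≤ (idx h) ^ 2` -/
theorem idx_comm (L : Large Q z) {h k : G} (hz : h * z = z * h) (hk : k * z = z * k) :
    idx L (h * k * h⁻¹ * k⁻¹) ≤ idx L h ^ 2 := by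
  have hz' : h⁻¹ * z = z * h⁻¹ := by
    rw [inv_mul_eq_iff_eq_mul, ← mul_assoc, hz, mul_assoc, mul_inv_cancel, mul_one]
  have h1 := idx_mul L (h := h) (k := k * h⁻¹ * k⁻¹) hz
  rw [idx_conj L hk, idx_inv L hz] at h1
  have e : h * k * h⁻¹ * k⁻¹ = h * (k * h⁻¹ * k⁻¹) := by group
  rw [e, pow_two]
  exact h1

theorem cen_mul_right (L : Large Q z) {h q : G} (hz : h * z = z * h) (hq : q ∈ Q) : cen L (h * q) = cen L h := by
  have ez : h * z * h⁻¹ = z := by rw [hz]; group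
  have key : ∀ {q : G}, q ∈ Q → cen L h ≤ cen L (h * q) := by
    intro q hq x hx
    obtain ⟨hx, h1⟩ := hx
    refine ⟨hx, ?_⟩
    have h2 : q * x * q⁻¹ = x ∨ q * x * q⁻¹ = x * z := by
      rcases L.comm q hq x hx with h2 | h2
      · left; rw [h2]; group
      · right
        rw [h2]
        calc x * q * z * q⁻¹ = x * (q * z) * q⁻¹ := by group
          _ = x * (z * q) * q⁻¹ := by rw [L.comm_z q hq]
          _ = x * z := by group
    have e : h * q * x * (h * q)⁻¹ = h * (q * x * q⁻¹) * h⁻¹ := by group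
    rcases h2 with h2 | h2
    · rw [e, h2]; exact h1
    · have e3 : h * (x * z) * h⁻¹ = (h * x * h⁻¹) * z := by
        calc h * (x * z) * h⁻¹ = (h * x * h⁻¹) * (h * z * h⁻¹) := by group
          _ = _ := by rw [ez]
      rw [e, h2, e3]
      rcases h1 with h1 | h1
      · right; rw [h1]
      · left; rw [h1, mul_assoc, L.z_sq, mul_one]
  refine le_antisymm ?_ (key hq)
  intro x hx
  obtain ⟨hx, h1⟩ := hx
  refine ⟨hx, ?_⟩
  have h2 : q * x * q⁻¹ = x ∨ q * x * q⁻¹ = x * z := by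
    rcases L.comm q hq x hx with h2 | h2
    · left; rw [h2]; group
    · right
      rw [h2]
      calc x * q * z * q⁻¹ = x * (q * z) * q⁻¹ := by group
        _ = x * (z * q) * q⁻¹ := by rw [L.comm_z q hq]
        _ = x * z := by group
  have e : h * q * x * (h * q)⁻¹ = h * (q * x * q⁻¹) * h⁻¹ := by group
  rw [e] at h1
  rcases h2 with h2 | h2
  · rwa [h2] at h1
  · have e3 : h * (x * z) * h⁻¹ = (h * x * h⁻¹) * z := by
      calc h * (x * z) * h⁻¹ = (h * x * h⁻¹) * (h * z * h⁻¹) := by group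
        _ = _ := by rw [ez]
    rw [h2, e3] at h1
    have e4 : h * x * h⁻¹ = (h * x * h⁻¹) * z * z := by rw [mul_assoc _ z z, L.z_sq, mul_one]
    rcases h1 with h1 | h1
    · right; rw [e4, h1]
    · left; rw [e4, h1, mul_assoc, L.z_sq, mul_one]

theorem idx_mul_right (L : Large Q z) {h q : G} (hz : h * z = z * h) (hq : q ∈ Q) : idx L (h * q) = idx L h := by
  unfold idx; rw [cen_mul_right L hz hq]

/-! ### lower bounds -/

/-- `{q ∈ Q | [x, [s, q]] = 1}` -/
def det (L : Large Q z) (s x : G) (hs : s * z = z * s) (hx : x ∈ Q) : Subgroup G where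
  carrier := {q | q ∈ Q ∧ x * (s * q * s⁻¹ * q⁻¹) = (s * q * s⁻¹ * q⁻¹) * x}
  one_mem' := ⟨Q.one_mem, by simp⟩
  mul_mem' := by
    rintro q p ⟨hq, h1⟩ ⟨hp, h2⟩
    refine ⟨Q.mul_mem hq hp, ?_⟩
    have hm : s * p * s⁻¹ * p⁻¹ ∈ Q := Q.mul_mem (L.conj_mem s hs p hp) (Q.inv_mem hp)
    have e : s * (q * p) * s⁻¹ * (q * p)⁻¹ = (s * q * s⁻¹ * q⁻¹) * (q * (s * p * s⁻¹ * p⁻¹) * q⁻¹) := by group
    have h3 : x * (q * (s * p * s⁻¹ * p⁻¹) * q⁻¹) = (q * (s * p * s⁻¹ * p⁻¹) * q⁻¹) * x := by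
      generalize s * p * s⁻¹ * p⁻¹ = c at hm h2
      have h4 : q * c * q⁻¹ = c ∨ q * c * q⁻¹ = c * z := by
        rcases L.comm q hq c hm with h4 | h4
        · left; rw [h4]; group
        · right
          rw [h4]
          calc c * q * z * q⁻¹ = c * (q * z) * q⁻¹ := by group
            _ = c * (z * q) * q⁻¹ := by rw [L.comm_z q hq]
            _ = c * z := by group
      rcases h4 with h4 | h4
      · rw [h4]; exact h2
      · rw [h4, ← mul_assoc, h2, mul_assoc, mul_assoc, L.comm_z x hx]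
    rw [e, ← mul_assoc, h1, mul_assoc, h3, ← mul_assoc]
  inv_mem' := by
    rintro q ⟨hq, h1⟩
    refine ⟨Q.inv_mem hq, ?_⟩
    have hm : s * q * s⁻¹ * q⁻¹ ∈ Q := Q.mul_mem (L.conj_mem s hs q hq) (Q.inv_mem hq)
    have e : s * q⁻¹ * s⁻¹ * (q⁻¹)⁻¹ = q⁻¹ * (s * q * s⁻¹ * q⁻¹)⁻¹ * q := by group
    rw [e]
    generalize s * q * s⁻¹ * q⁻¹ = c at hm h1
    have hc : x * c⁻¹ = c⁻¹ * x := by
      rw [eq_inv_mul_iff_mul_eq, ← mul_assoc, ← h1, mul_assoc, mul_inv_cancel, mul_one]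
    have hq' := Q.inv_mem hq
    have h4 : q⁻¹ * c⁻¹ * q = c⁻¹ ∨ q⁻¹ * c⁻¹ * q = c⁻¹ * z := by
      rcases L.comm q⁻¹ hq' c⁻¹ (Q.inv_mem hm) with h4 | h4
      · left; rw [h4]; group
      · right
        rw [h4]
        calc c⁻¹ * q⁻¹ * z * q = c⁻¹ * (q⁻¹ * z) * q := by group
          _ = c⁻¹ * (z * q⁻¹) * q := by rw [L.comm_z _ hq']
          _ = c⁻¹ * z := by group
    rcases h4 with h4 | h4
    · rw [h4]; exact hc
    · rw [h4, ← mul_assoc, hc, mul_assoc, mul_assoc, L.comm_z x hx]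

theorem cen_le_det (L : Large Q z) {s x : G} (hs : s * z = z * s) (hx : x ∈ Q) : cen L s ≤ det L s x hs hx := by
  rintro q ⟨hq, h1⟩
  refine ⟨hq, ?_⟩
  rcases h1 with h1 | h1
  · rw [h1]; simp
  · have e : s * q * s⁻¹ * q⁻¹ = z := by
      rw [h1]
      calc q * z * q⁻¹ = z * q * q⁻¹ := by rw [L.comm_z q hq]
        _ = z := by group
    rw [e, L.comm_z x hx]

/-- `y ∈ A`, `y ∉ B`, `B ≤ A ≤ Q` : the index doubles -/
theorem relIndex_double {A B : Subgroup G} (hBA : B ≤ A) (hA : A ≤ Q) {y : G} (hy : y ∈ A) (hy' : y ∉ B) :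
    2 * A.relIndex Q ≤ B.relIndex Q := by
  have h1 : B.relIndex A * A.relIndex Q = B.relIndex Q := Subgroup.relIndex_mul_relIndex B A Q hBA hA
  have h2 : B.relIndex A ≠ 0 := by
    have : Finite A := Finite.of_injective _ (Subgroup.inclusion_injective hA)
    have : Finite (A ⧸ B.subgroupOf A) := inferInstance
    exact Subgroup.index_ne_zero_of_finite
  have h3 : B.relIndex A ≠ 1 := fun h => hy' (Subgroup.relIndex_eq_one.1 h hy)
  rw [← h1]
  exact Nat.mul_le_mul_right _ (by omega)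

/-- the condition on a list of pairs -/
def Tri (s : G) : List (G × G) → Prop
  | [] => True
  | p :: l => p.1 * (s * p.2 * s⁻¹ * p.2⁻¹) ≠ (s * p.2 * s⁻¹ * p.2⁻¹) * p.1 ∧
      (∀ q ∈ l, q.1 * (s * p.2 * s⁻¹ * p.2⁻¹) = (s * p.2 * s⁻¹ * p.2⁻¹) * q.1) ∧ Tri s l

/-- **lower bounds of the index** -/
theorem chain (L : Large Q z) {s : G} (hs : s * z = z * s) (l : List (G × G))
    (hl : ∀ p ∈ l, p.1 ∈ Q ∧ p.2 ∈ Q) (ht : Tri s l) : 2 ^ l.length ≤ idx L s := by
  suffices H : ∃ A : Subgroup G, cen L s ≤ A ∧ A ≤ Q ∧ 2 ^ l.length ≤ A.relIndex Q ∧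
      (∀ y ∈ Q, (∀ q ∈ l, q.1 * (s * y * s⁻¹ * y⁻¹) = (s * y * s⁻¹ * y⁻¹) * q.1) → y ∈ A) by
    obtain ⟨A, h1, -, h2, -⟩ := H
    exact h2.trans (relIndex_anti h1)
  induction l with
  | nil => exact ⟨Q, cen_le L s, le_rfl, by simp, fun y hy _ => hy⟩
  | cons p l ih =>
    obtain ⟨h1, h2, h3⟩ := ht
    obtain ⟨A, hA1, hA2, hA3, hA4⟩ := ih (fun q hq => hl q (List.mem_cons_of_mem _ hq)) h3
    obtain ⟨hp1, hp2⟩ := hl p List.mem_cons_self
    refine ⟨A ⊓ det L s p.1 hs hp1, le_inf hA1 (cen_le_det L hs hp1), inf_le_left.trans hA2, ?_, ?_⟩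
    · have h4 : p.2 ∈ A := hA4 _ hp2 h2
      have h5 : p.2 ∉ A ⊓ det L s p.1 hs hp1 := fun h => h1 h.2.2
      have h6 := relIndex_double (Q := Q) inf_le_left hA2 h4 h5
      rw [List.length_cons, pow_succ, mul_comm]
      exact (Nat.mul_le_mul_left 2 hA3).trans h6
    · intro y hy h
      exact ⟨hA4 y hy fun q hq => h q (List.mem_cons_of_mem _ hq), hy, h p List.mem_cons_self⟩

end Cfsg.Agent.H486.F4
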