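import Cfsg.Agent.TwoESix.SheetA
import Cfsg.Agent.H486.F4.Cen

/-!
# F4 of S2491: the rank of `x₆₀(1) x₁₁(1)` on `2²⁰` (helper486)

`idx_s` : `s = x₆₀(1) x₁₁(1)` (order 3, a product of two opposite root involutions of the Levi subgroup of
`C(r0)` in `²E₆(2)`) has `2⁹ ≤ |Q : C_{Q/⟨z⟩}(s)|` (the truth is `2¹²`).
-/

set_option autoImplicit false
set_option linter.unusedSectionVars false

namespace Cfsg.Agent.H486.F4

open Cfsg Cfsg.Lie
open Cfsg.Agent.ChevalleyStructure
open Cfsg.Agent.ChevalleyStructure.Elts hiding x_add x_zero x_eq_one_iff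
open Cfsg.Agent.ChevalleyStructure.TwE6Basic
open Cfsg.Agent.ChevalleyStructure.TwE6BN
open Cfsg.Agent.TwoESix.LeviA
open Cfsg.Agent.TwoESix.LeviB
open Cfsg.Agent.TwoESix.LeviC
open Cfsg.Agent.TwoESix.LeviD
open Cfsg.Agent.TwoESix.LongPairs
open Cfsg.Agent.TwoESix.LongCard
open Cfsg.Agent.TwoESix.FlagH
open Cfsg.Agent.TwoESix.FlagI
open Cfsg.Agent.TwoESix.FlagK (l20)
open Cfsg.Agent.TwoESix.FlagL (Si Co ZX comm_zx z_mem_UE x_mem_UE)
open Cfsg.Agent.TwoESix.KeyExtra
open Cfsg.Agent.TwoESix.SheetA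
open Cfsg.Agent.BabyU (rootClass)
open Cfsg.Agent.Co2Type.Quad (Large)

universe u

variable {K : Type u} [Field K]

section Gl

variable [CharP K 2]

theorem sq_x (r : ℕ) (t : K) : x r t * x r t = (1 : GL chevE6.Idx K) := by
  rw [x_add, CharTwo.add_self_eq_zero, TwE6Basic.x_zero]

/-- `s x_r = x_r x_k s` -/
theorem s_neg {r k : Fin 72} (h : Si r 60 k) (h11 : Co r 11) (hk : Co k 60) :
    (x 60 1 * x 11 1) * x r.val (1 : K) = x r.val 1 * x k.val 1 * (x 60 1 * x 11 1) := by
  have e1 : x 11 (1 : K) * x r.val 1 = x r.val 1 * x 11 1 := h11.eq 1 1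
  have e2 : x 60 (1 : K) * x r.val 1 = x r.val 1 * x 60 1 * x k.val (1 * 1) := h.eq 1 1
  have e3 : x 60 (1 : K) * x k.val 1 = x k.val 1 * x 60 1 := hk.eq 1 1
  rw [mul_one] at e2
  calc (x 60 1 * x 11 1) * x r.val (1 : K) = x 60 1 * (x 11 1 * x r.val 1) := by group
    _ = (x 60 1 * x r.val 1) * x 11 1 := by rw [e1]; group
    _ = x r.val 1 * (x 60 1 * x k.val 1) * x 11 1 := by rw [e2]; group
    _ = _ := by rw [e3]; group

/-- `s x_r = x_r x_k x_r s` -/
theorem s_pos {r k : Fin 72} (h : Si r 11 k) (h60 : Co r 60) (hk : Si k 60 r) (hk' : Co k 11) :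
    (x 60 1 * x 11 1) * x r.val (1 : K) = x r.val 1 * x k.val 1 * x r.val 1 * (x 60 1 * x 11 1) := by
  have e1 : x 11 (1 : K) * x r.val 1 = x r.val 1 * x 11 1 * x k.val (1 * 1) := h.eq 1 1
  have e2 : x 11 (1 : K) * x k.val 1 = x k.val 1 * x 11 1 := hk'.eq 1 1
  have e3 : x 60 (1 : K) * x r.val 1 = x r.val 1 * x 60 1 := h60.eq 1 1
  have e4 : x 60 (1 : K) * x k.val 1 = x k.val 1 * x 60 1 * x r.val (1 * 1) := hk.eq 1 1
  rw [mul_one] at e1 e4
  calc (x 60 1 * x 11 1) * x r.val (1 : K) = x 60 1 * (x 11 1 * x r.val 1) := by group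
    _ = x 60 1 * x r.val 1 * (x 11 1 * x k.val 1) := by rw [e1]; group
    _ = (x 60 1 * x r.val 1) * x k.val 1 * x 11 1 := by rw [e2]; group
    _ = x r.val 1 * (x 60 1 * x k.val 1) * x 11 1 := by rw [e3]; group
    _ = x r.val 1 * x k.val 1 * (x 60 1 * x r.val 1) * x 11 1 := by rw [e4]; group
    _ = _ := by rw [e3]; group

theorem zx48 : ZX 48 60 66 71 := by decide +kernel

/-- `s z_48(a) = z_48(a) z_66(a) x_71(a φ(a)) s` -/
theorem s_short (φ : K →+* K) (a : K) :
    (x 60 1 * x 11 1) * z φ 48 a = z φ 48 a * (z φ 66 a * x 71 (a * φ a)) * (x 60 1 * x 11 1) := by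
  have c1 : Co 48 11 := by decide +kernel
  have c2 : Co 50 11 := by decide +kernel
  have hr : rho 48 = 50 := by decide +kernel
  have e1 : x 11 (1 : K) * z φ 48 a = z φ 48 a * x 11 1 := by
    have d1 : x 11 (1 : K) * x 48 a = x 48 a * x 11 1 := c1.eq a 1
    have d2 : x 11 (1 : K) * x 50 (φ a) = x 50 (φ a) * x 11 1 := c2.eq (φ a) 1
    show x 11 (1 : K) * (x 48 a * x (rho 48).val (φ a)) = x 48 a * x (rho 48).val (φ a) * x 11 1
    rw [hr, ← mul_assoc, d1, mul_assoc, show x 11 (1 : K) * x (50 : Fin 72).val (φ a) = x (50 : Fin 72).val (φ a) * x 11 1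
      from d2, ← mul_assoc]
  have e2 : z φ 48 a * x 60 1 = x 60 1 * z φ 48 a * (z φ 66 a * x 71 (a * φ a)) := comm_zx zx48 φ a
  have e3 : x 60 (1 : K) * z φ 48 a = z φ 48 a * (z φ 66 a * x 71 (a * φ a)) * x 60 1 := by
    have h1 : x 60 (1 : K) * (x 60 1 * z φ 48 a * (z φ 66 a * x 71 (a * φ a))) = x 60 1 * (z φ 48 a * x 60 1) := by
      rw [e2]
    have h2 : z φ 48 a * (z φ 66 a * x 71 (a * φ a)) = x 60 1 * (z φ 48 a * x 60 1) := by
      rw [← h1]
      calc z φ 48 a * (z φ 66 a * x 71 (a * φ a)) = (x 60 1 * x 60 1) * (z φ 48 a * (z φ 66 a * x 71 (a * φ a))) := by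
            rw [sq_x, one_mul]
        _ = _ := by group
    rw [h2]
    calc x 60 (1 : K) * z φ 48 a = x 60 1 * z φ 48 a * (x 60 1 * x 60 1) := by rw [sq_x, mul_one]
      _ = _ := by group
  rw [mul_assoc, e1, ← mul_assoc, e3]
  group

end Gl

section Four

variable [Fintype K] {φ : K →+* K} (F : Four K φ)
include F

/-- `x₆₀(1)` -/
def a6 : ↥(twistedE6 K 2) := xe F 60 (by decide +kernel)

/-- `x₁₁(1)` -/
def b6 : ↥(twistedE6 K 2) := xe F 11 (by decide +kernel)

/-- `z_r(t)` in `²E₆(2)` -/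
def ze (r : Fin 72) (hr : r ∈ l20) (hrr : rho r ≠ r) (t : K) : ↥(twistedE6 K 2) :=
  ⟨z φ r t, (z_mem_UE F hr hrr t).2⟩

theorem xe_RE {r : Fin 72} (hr : rho r = r) (hU : IsU r) : xe F r hr ∈ RE K :=
  Subgroup.mem_subgroupOf.2 (x_mem_UR hU.1 hU.2 1)

theorem ze_RE {r : Fin 72} (hr : r ∈ l20) (hrr : rho r ≠ r) (t : K) : ze F r hr hrr t ∈ RE K :=
  Subgroup.mem_subgroupOf.2 (z_mem_UE F hr hrr t).1

theorem co {p q : Fin 72} (h : Co p q) (hp : rho p = p) (hq : rho q = q) :
    xe F q hq * xe F p hp = xe F p hp * xe F q hq := Subtype.ext (h.eq 1 1)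

theorem nco {p q : Fin 72} (h : Si p q 71) (hp : rho p = p) (hq : rho q = q) :
    xe F q hq * xe F p hp ≠ xe F p hp * xe F q hq := by
  have := F.charP
  intro h1
  have h2 : x q.val (1 : K) * x p.val 1 = x p.val 1 * x q.val 1 := congrArg Subtype.val h1
  have h3 : x q.val (1 : K) * x p.val 1 = x p.val 1 * x q.val 1 * x 71 (1 * 1) := h.eq 1 1
  rw [mul_one, h2] at h3
  exact x_ne_one (K := K) (r := 71) (by norm_num) (left_eq_mul.1 h3)

theorem coz {q r : Fin 72} (h : Co r q) (h' : Co (rho r) q) (hq : rho q = q) (hr : r ∈ l20) (hrr : rho r ≠ r) (t : K) :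
    xe F q hq * ze F r hr hrr t = ze F r hr hrr t * xe F q hq := by
  apply Subtype.ext
  show x q.val 1 * (x r.val t * x (rho r).val (φ t)) = (x r.val t * x (rho r).val (φ t)) * x q.val 1
  rw [← mul_assoc, h.eq, mul_assoc, h'.eq, mul_assoc]

theorem s_eq_neg {r k : Fin 72} (hr : rho r = r) (hk : rho k = k) (h : Si r 60 k) (h11 : Co r 11) (hk0 : Co k 60)
    (hrk : Co r k) : (a6 F * b6 F) * xe F r hr * (a6 F * b6 F)⁻¹ * (xe F r hr)⁻¹ = xe F k hk := by
  have := F.charP
  have e : (a6 F * b6 F) * xe F r hr = xe F r hr * xe F k hk * (a6 F * b6 F) := Subtype.ext (s_neg h h11 hk0)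
  rw [e, mul_inv_cancel_right, ← co F hrk hr hk, mul_inv_cancel_right]

theorem s_eq_pos {r k : Fin 72} (hr : rho r = r) (hk : rho k = k) (h : Si r 11 k) (h60 : Co r 60) (hk0 : Si k 60 r)
    (hk' : Co k 11) : (a6 F * b6 F) * xe F r hr * (a6 F * b6 F)⁻¹ * (xe F r hr)⁻¹ = xe F r hr * xe F k hk := by
  have := F.charP
  have e : (a6 F * b6 F) * xe F r hr = xe F r hr * xe F k hk * xe F r hr * (a6 F * b6 F) :=
    Subtype.ext (s_pos h h60 hk0 hk')
  rw [e, mul_inv_cancel_right, mul_inv_cancel_right]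

theorem s_eq_short {t : K} (ht : t * φ t = 1) (h48 : (48 : Fin 72) ∈ l20) (h48' : rho 48 ≠ 48)
    (h66 : (66 : Fin 72) ∈ l20) (h66' : rho 66 ≠ 66) :
    (a6 F * b6 F) * ze F 48 h48 h48' t * (a6 F * b6 F)⁻¹ * (ze F 48 h48 h48' t)⁻¹ =
      ze F 48 h48 h48' t * (ze F 66 h66 h66' t * r0 F) * (ze F 48 h48 h48' t)⁻¹ := by
  have := F.charP
  have e : (a6 F * b6 F) * ze F 48 h48 h48' t = ze F 48 h48 h48' t * (ze F 66 h66 h66' t * r0 F) * (a6 F * b6 F) := by
    apply Subtype.ext
    show (x 60 1 * x 11 1) * z φ 48 t = z φ 48 t * (z φ 66 t * x 71 1) * (x 60 1 * x 11 1)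
    have := s_short φ t
    rwa [ht] at this
  rw [e, mul_inv_cancel_right]

/-- commuting with a conjugate by an element of `Q` -/
theorem comm_conj_iff {q w c : ↥(twistedE6 K 2)} (hq : q ∈ RE K) (hw : w ∈ RE K) (hc : c ∈ RE K) :
    (q * (w * (c * r0 F) * w⁻¹) = (w * (c * r0 F) * w⁻¹) * q) ↔ q * c = c * q := by
  have hqz := RE_comm_r0 F hq
  have hwz := RE_comm_r0 F hw
  have hz : r0 F * r0 F = 1 := (large F).z_sq
  have key : ∀ d : ↥(twistedE6 K 2), (q * (d * r0 F) = (d * r0 F) * q ↔ q * d = d * q) := by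
    intro d
    rw [mul_assoc d, ← hqz, ← mul_assoc, ← mul_assoc]
    exact mul_left_inj _
  rcases comm_RE' F hw hc with h | h
  · have e : w * (c * r0 F) * w⁻¹ = c * r0 F := by
      calc w * (c * r0 F) * w⁻¹ = (w * c) * (r0 F * w⁻¹) := by group
        _ = (c * w) * (w⁻¹ * r0 F) := by rw [h, RE_comm_r0 F (inv_mem hw)]
        _ = _ := by group
    rw [e, key]
  · have e : w * (c * r0 F) * w⁻¹ = c := by
      calc w * (c * r0 F) * w⁻¹ = (w * c) * (r0 F * w⁻¹) := by group
        _ = (c * w * r0 F) * (w⁻¹ * r0 F) := by rw [h, RE_comm_r0 F (inv_mem hw)]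
        _ = c * (w * r0 F) * w⁻¹ * r0 F := by group
        _ = c * (r0 F * w) * w⁻¹ * r0 F := by rw [hwz]
        _ = c * (r0 F * r0 F) := by group
        _ = c := by rw [hz, mul_one]
    rw [e]

/-- the two short root groups -/
theorem nco_short {t : K} (ht : t + φ t = 1) (h50 : (50 : Fin 72) ∈ l20) (h50' : rho 50 ≠ 50)
    (h66 : (66 : Fin 72) ∈ l20) (h66' : rho 66 ≠ 66) :
    ze F 50 h50 h50' 1 * ze F 66 h66 h66' t ≠ ze F 66 h66 h66' t * ze F 50 h50 h50' 1 := by
  have := F.charP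
  intro h1
  have h2 : z φ 50 1 * z φ 66 t = z φ 66 t * z φ 50 1 := congrArg Subtype.val h1
  have r50 : rho 50 = 48 := by decide +kernel
  have r66 : rho 66 = 68 := by decide +kernel
  have d1 : x 50 (1 : K) * x 66 t = x 66 t * x 50 1 * x 71 (t * 1) :=
    (show Si 66 50 71 by decide +kernel).eq t 1
  have d2 : x 48 (1 : K) * x 66 t = x 66 t * x 48 1 := (show Co 66 48 by decide +kernel).eq t 1
  have d3 : x 50 (1 : K) * x 68 (φ t) = x 68 (φ t) * x 50 1 := (show Co 68 50 by decide +kernel).eq (φ t) 1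
  have d4 : x 48 (1 : K) * x 68 (φ t) = x 68 (φ t) * x 48 1 * x 71 (φ t * 1) :=
    (show Si 68 48 71 by decide +kernel).eq (φ t) 1
  have d5 : ∀ u : K, x 71 u * x 48 1 = x 48 1 * x 71 u := fun u => comm_top (r := 48) (by decide) 1 u
  have d6 : ∀ u : K, x 71 u * x 68 (φ t) = x 68 (φ t) * x 71 u := fun u => comm_top (r := 68) (by decide) (φ t) u
  rw [mul_one] at d1 d4
  have e1 : z φ 50 (1 : K) = x 50 1 * x 48 1 := by
    show x 50 1 * x (rho 50).val (φ 1) = _
    rw [r50, map_one]; rfl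
  have e2 : z φ 66 t = x 66 t * x 68 (φ t) := by
    show x 66 t * x (rho 66).val (φ t) = _
    rw [r66]; rfl
  have h3 : z φ 50 1 * z φ 66 t = z φ 66 t * z φ 50 1 * x 71 1 := by
    rw [e1, e2]
    calc x 50 1 * x 48 1 * (x 66 t * x 68 (φ t)) = x 50 1 * (x 48 1 * x 66 t) * x 68 (φ t) := by group
      _ = (x 50 1 * x 66 t) * (x 48 1 * x 68 (φ t)) := by rw [d2]; group
      _ = x 66 t * x 50 1 * (x 71 t * x 68 (φ t)) * x 48 1 * x 71 (φ t) := by rw [d1, d4]; group
      _ = x 66 t * (x 50 1 * x 68 (φ t)) * (x 71 t * x 48 1) * x 71 (φ t) := by rw [d6]; group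
      _ = x 66 t * x 68 (φ t) * (x 50 1 * x 48 1) * (x 71 t * x 71 (φ t)) := by rw [d3, d5]; group
      _ = _ := by rw [x_add, ht]
  rw [h3] at h2
  exact x_ne_one (K := K) (r := 71) (by norm_num) (mul_eq_left.1 h2)

theorem s_r0 : (a6 F * b6 F) * r0 F = r0 F * (a6 F * b6 F) := by
  have h1 : a6 F * r0 F = r0 F * a6 F := ab F
  have h2 : b6 F * r0 F = r0 F * b6 F := by
    have := co F (p := 11) (q := 71) (by decide +kernel) (by decide +kernel) (by decide +kernel)
    exact this.symm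
  rw [mul_assoc, h2, ← mul_assoc, h1, mul_assoc]

theorem exists_t : ∃ t : K, t + φ t = 1 ∧ t * φ t = 1 := by
  obtain ⟨w, hw⟩ := Cfsg.Agent.SporadicStructure.UnitTwo.exists_omega (F := K) (by rw [F.card]; norm_num)
  have := F.charP
  have h2 : (2 : K) = 0 := CharTwo.two_eq_zero
  refine ⟨w, ?_, ?_⟩
  · rw [F.sq]; linear_combination hw - h2
  · rw [F.sq]
    linear_combination (w - 1) * hw

omit [Fintype K] F in
theorem cmul {a b q : ↥(twistedE6 K 2)} (h1 : q * a = a * q) (h2 : q * b = b * q) : q * (a * b) = (a * b) * q :=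
  (Commute.mul_right (show Commute q a from h1) (show Commute q b from h2)).eq

omit [Fintype K] F in
theorem ncmul {a b q : ↥(twistedE6 K 2)} (h1 : q * a = a * q) (h2 : q * b ≠ b * q) : q * (a * b) ≠ (a * b) * q := by
  intro h
  apply h2
  rw [← mul_assoc, h1, mul_assoc, mul_assoc] at h
  exact mul_left_cancel h

/-- **the rank of `s`** -/
theorem idx_s : 2 ^ 9 ≤ idx (large F) (a6 F * b6 F) := by
  have := F.charP
  have : Finite ↥(twistedE6 K 2) := finite_E
  obtain ⟨t, ht1, ht2⟩ := exists_t F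
  have r46 : rho 46 = 46 := by decide +kernel
  have r47 : rho 47 = 47 := by decide +kernel
  have r51 : rho 51 = 51 := by decide +kernel
  have r53 : rho 53 = 53 := by decide +kernel
  have r63 : rho 63 = 63 := by decide +kernel
  have r65 : rho 65 = 65 := by decide +kernel
  have r69 : rho 69 = 69 := by decide +kernel
  have r70 : rho 70 = 70 := by decide +kernel
  have m48 : (48 : Fin 72) ∈ l20 := by decide
  have m50 : (50 : Fin 72) ∈ l20 := by decide
  have m66 : (66 : Fin 72) ∈ l20 := by decide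
  have r48 : rho 48 ≠ 48 := by decide +kernel
  have r50 : rho 50 ≠ 50 := by decide +kernel
  have r66 : rho 66 ≠ 66 := by decide +kernel
  have h := chain (large F) (s_r0 F)
    [(xe F 53 r53, xe F 46 r46), (xe F 51 r51, xe F 47 r47), (xe F 47 r47, xe F 51 r51), (xe F 46 r46, xe F 53 r53),
     (ze F 50 m50 r50 1, ze F 48 m48 r48 t),
     (xe F 70 r70, xe F 63 r63), (xe F 69 r69, xe F 65 r65), (xe F 65 r65, xe F 69 r69), (xe F 63 r63, xe F 70 r70)]
    ?_ ?_
  · exact h
  · simp only [List.forall_mem_cons]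
    exact ⟨⟨xe_RE F _ (by decide +kernel), xe_RE F _ (by decide +kernel)⟩,
      ⟨xe_RE F _ (by decide +kernel), xe_RE F _ (by decide +kernel)⟩,
      ⟨xe_RE F _ (by decide +kernel), xe_RE F _ (by decide +kernel)⟩,
      ⟨xe_RE F _ (by decide +kernel), xe_RE F _ (by decide +kernel)⟩,
      ⟨ze_RE F _ _ _, ze_RE F _ _ _⟩,
      ⟨xe_RE F _ (by decide +kernel), xe_RE F _ (by decide +kernel)⟩,
      ⟨xe_RE F _ (by decide +kernel), xe_RE F _ (by decide +kernel)⟩,
      ⟨xe_RE F _ (by decide +kernel), xe_RE F _ (by decide +kernel)⟩,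
      ⟨xe_RE F _ (by decide +kernel), xe_RE F _ (by decide +kernel)⟩, fun _ h => absurd h List.not_mem_nil⟩
  · have e46 := s_eq_neg F r46 r63 (by decide +kernel) (by decide +kernel) (by decide +kernel) (by decide +kernel)
    have e47 := s_eq_neg F r47 r65 (by decide +kernel) (by decide +kernel) (by decide +kernel) (by decide +kernel)
    have e51 := s_eq_neg F r51 r69 (by decide +kernel) (by decide +kernel) (by decide +kernel) (by decide +kernel)
    have e53 := s_eq_neg F r53 r70 (by decide +kernel) (by decide +kernel) (by decide +kernel) (by decide +kernel)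
    have e48 := s_eq_short F ht2 m48 r48 m66 r66
    have e63 := s_eq_pos F r63 r46 (by decide +kernel) (by decide +kernel) (by decide +kernel) (by decide +kernel)
    have e65 := s_eq_pos F r65 r47 (by decide +kernel) (by decide +kernel) (by decide +kernel) (by decide +kernel)
    have e69 := s_eq_pos F r69 r51 (by decide +kernel) (by decide +kernel) (by decide +kernel) (by decide +kernel)
    have e70 := s_eq_pos F r70 r53 (by decide +kernel) (by decide +kernel) (by decide +kernel) (by decide +kernel)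
    have hz48 := ze_RE F m48 r48 t
    have hz66 := ze_RE F m66 r66 t
    have hx : ∀ {r : Fin 72} (hr : rho r = r) (_ : IsU r), xe F r hr ∈ RE K := fun hr hU => xe_RE F hr hU
    refine ⟨?_, ?_, ?_, ?_, ?_, ?_, ?_, ?_, ?_, ?_, ?_, ?_, ?_, ?_, ?_, ?_, ?_, ?_, trivial⟩ <;>
      simp only [List.forall_mem_cons, List.not_mem_nil, false_imp_iff, implies_true, and_true, true_and, e46, e47, e51, e53, e48,
        e63, e65, e69, e70]
    · exact nco F (by decide +kernel) _ _
    · exact ⟨co F (by decide +kernel) _ _, co F (by decide +kernel) _ _, co F (by decide +kernel) _ _,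
        (coz F (by decide +kernel) (by decide +kernel) _ _ _ _).symm, co F (by decide +kernel) _ _,
        co F (by decide +kernel) _ _, co F (by decide +kernel) _ _⟩
    · exact nco F (by decide +kernel) _ _
    · exact ⟨co F (by decide +kernel) _ _, co F (by decide +kernel) _ _,
        (coz F (by decide +kernel) (by decide +kernel) _ _ _ _).symm, co F (by decide +kernel) _ _,
        co F (by decide +kernel) _ _, co F (by decide +kernel) _ _⟩
    · exact nco F (by decide +kernel) _ _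
    · exact ⟨co F (by decide +kernel) _ _,
        (coz F (by decide +kernel) (by decide +kernel) _ _ _ _).symm, co F (by decide +kernel) _ _,
        co F (by decide +kernel) _ _, co F (by decide +kernel) _ _⟩
    · exact nco F (by decide +kernel) _ _
    · exact ⟨(coz F (by decide +kernel) (by decide +kernel) _ _ _ _).symm, co F (by decide +kernel) _ _,
        co F (by decide +kernel) _ _, co F (by decide +kernel) _ _⟩
    · rw [ne_eq, comm_conj_iff F (ze_RE F _ _ _) hz48 hz66]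
      exact nco_short F ht1 _ _ _ _
    · rw [comm_conj_iff F (hx _ (by decide +kernel)) hz48 hz66, comm_conj_iff F (hx _ (by decide +kernel)) hz48 hz66,
        comm_conj_iff F (hx _ (by decide +kernel)) hz48 hz66, comm_conj_iff F (hx _ (by decide +kernel)) hz48 hz66]
      exact ⟨coz F (by decide +kernel) (by decide +kernel) _ _ _ _, coz F (by decide +kernel) (by decide +kernel) _ _ _ _,
        coz F (by decide +kernel) (by decide +kernel) _ _ _ _, coz F (by decide +kernel) (by decide +kernel) _ _ _ _⟩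
    · exact ncmul (co F (by decide +kernel) _ _) (nco F (by decide +kernel) _ _)
    · exact ⟨cmul (co F (by decide +kernel) _ _) (co F (by decide +kernel) _ _),
        cmul (co F (by decide +kernel) _ _) (co F (by decide +kernel) _ _), cmul rfl (co F (by decide +kernel) _ _)⟩
    · exact ncmul (co F (by decide +kernel) _ _) (nco F (by decide +kernel) _ _)
    · exact ⟨cmul rfl (co F (by decide +kernel) _ _), cmul (co F (by decide +kernel) _ _) (co F (by decide +kernel) _ _)⟩
    · exact ncmul (co F (by decide +kernel) _ _) (nco F (by decide +kernel) _ _)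
    · exact cmul (co F (by decide +kernel) _ _) (co F (by decide +kernel) _ _)
    · exact ncmul (co F (by decide +kernel) _ _) (nco F (by decide +kernel) _ _)

end Four

end Cfsg.Agent.H486.F4
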