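import Cfsg.Agent.H6.ORE.Extra

/-!
# F4 of S2491: `FPz` for generating pairs (helper486)

`fp_of_gen` : `A` abelian normal in `H`, `⟨a, b⟩ C = H`, `C` centralizes `A`, `A = [A, H]`: `FP A a b`.
`fpz_of_gen` : `Q ⊴ H`, commutators of `Q` in `{1, z}`, `⟨a, b⟩ C = H` with `[C, Q] ≤ ⟨z⟩` and
`Q = [Q, H] ⟨z⟩`: `FPz Q z a b`.
-/

set_option autoImplicit false

namespace Cfsg.Agent.H486.F4

open Cfsg.Agent.H6.ORE

variable {H : Type*} [Group H] {Q : Subgroup H} {z : H}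

/-- the abelian version -/
theorem fp_of_gen {A C : Subgroup H} (hn : A.Normal) (hA : ∀ x ∈ A, ∀ y ∈ A, x * y = y * x)
    (hC : ∀ c ∈ C, ∀ x ∈ A, c * x * c⁻¹ = x) {a b : H}
    (hgen : Subgroup.closure {a, b} ⊔ C = ⊤)
    (hR : ∀ R : Subgroup H, R ≤ A → (∀ x ∈ A, ∀ h : H, h * x * h⁻¹ * x⁻¹ ∈ R) → A ≤ R) :
    FP A a b := by
  have : A.Normal := hn
  let _ : CommGroup A := { (inferInstance : Group A) with mul_comm := fun x y => Subtype.ext (hA x x.2 y y.2) }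
  let φ : H →* MulAut A := MulAut.conjNormal
  have hφ : ∀ (h : H) (x : A), ((φ h x : A) : H) = h * x * h⁻¹ := fun h x => MulAut.conjNormal_apply h x
  let D : H → (A →* A) := fun h => MonoidHom.id A / (φ h).toMonoidHom
  have hD : ∀ (h : H) (x : A), ((D h x : A) : H) = x * (h * x * h⁻¹)⁻¹ := by
    intro h x
    show (((x : A) / φ h x : A) : H) = _
    rw [div_eq_mul_inv, Subgroup.coe_mul, Subgroup.coe_inv, hφ]
  let R0 : Subgroup A := (D b).range ⊔ (D a).range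
  let R : Subgroup H := R0.map A.subtype
  have hRA : R ≤ A := by
    rintro _ ⟨x, -, rfl⟩
    exact x.2
  let S : Subgroup H :=
    { carrier := {h | ∀ x ∈ A, h * x * h⁻¹ * x⁻¹ ∈ R}
      one_mem' := fun x _ => by simp
      mul_mem' := by
        intro g h hg hh x hx
        have e : g * h * x * (g * h)⁻¹ * x⁻¹
            = (g * (h * x * h⁻¹) * g⁻¹ * (h * x * h⁻¹)⁻¹) * (h * x * h⁻¹ * x⁻¹) := by group
        rw [e]
        exact R.mul_mem (hg _ (hn.conj_mem x hx h)) (hh x hx)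
      inv_mem' := by
        intro h hh x hx
        have hx' : h⁻¹ * x * h ∈ A := by simpa using hn.conj_mem x hx h⁻¹
        have e : h⁻¹ * x * (h⁻¹)⁻¹ * x⁻¹
            = (h * (h⁻¹ * x * h) * h⁻¹ * (h⁻¹ * x * h)⁻¹)⁻¹ := by group
        show h⁻¹ * x * (h⁻¹)⁻¹ * x⁻¹ ∈ R
        rw [e]
        exact R.inv_mem (hh _ hx') }
  have haS : a ∈ S := by
    intro x hx
    have e : a * x * a⁻¹ * x⁻¹ = ((D a ⟨x, hx⟩ : A) : H)⁻¹ := by rw [hD]; group
    rw [e]
    exact R.inv_mem ⟨_, Subgroup.mem_sup_right ⟨_, rfl⟩, rfl⟩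
  have hbS : b ∈ S := by
    intro x hx
    have e : b * x * b⁻¹ * x⁻¹ = ((D b ⟨x, hx⟩ : A) : H)⁻¹ := by rw [hD]; group
    rw [e]
    exact R.inv_mem ⟨_, Subgroup.mem_sup_left ⟨_, rfl⟩, rfl⟩
  have hCS : C ≤ S := by
    intro c hc x hx
    rw [hC c hc x hx, mul_inv_cancel]
    exact R.one_mem
  have hS : S = ⊤ := by
    rw [eq_top_iff, ← hgen, sup_le_iff, Subgroup.closure_le]
    refine ⟨?_, hCS⟩
    rintro x (rfl | rfl)
    · exact haS
    · exact hbS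
  have hAR : A ≤ R := hR R hRA fun x hx h => by
    have : h ∈ S := by rw [hS]; exact Subgroup.mem_top h
    exact this x hx
  intro w hw
  obtain ⟨w', hw', rfl⟩ := hAR hw
  obtain ⟨_, ⟨u, rfl⟩, _, ⟨v, rfl⟩, rfl⟩ := Subgroup.mem_sup.1 hw'
  refine ⟨u, u.2, v, v.2, ?_⟩
  show (((D b u : A) * (D a v : A) : A) : H) = _
  rw [Subgroup.coe_mul, hD, hD]

/-- `FPz` for a pair generating `H` modulo a group `C` acting trivially on `Q/⟨z⟩` -/
theorem fpz_of_gen (hn : Q.Normal) (hz2 : z * z = 1) (hzc : ∀ h : H, h * z = z * h)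
    (hcomm : ∀ x ∈ Q, ∀ y ∈ Q, x * y = y * x ∨ x * y = y * x * z) (C : Subgroup H)
    (hC : ∀ c ∈ C, ∀ x ∈ Q, c * x * c⁻¹ = x ∨ c * x * c⁻¹ = x * z) {a b : H}
    (hgen : Subgroup.closure {a, b} ⊔ C = ⊤)
    (hQ : ∀ R : Subgroup H, R ≤ Q → z ∈ R → (∀ x ∈ Q, ∀ h : H, h * x * h⁻¹ * x⁻¹ ∈ R) → Q ≤ R)
    (hz : z ∈ Q) : FPz Q z a b := by
  have hmz : ∀ {x : H}, x ∈ Subgroup.zpowers z ↔ x = 1 ∨ x = z := by
    intro x
    constructor
    · rintro ⟨n, rfl⟩
      have h2 : z ^ (2 : ℤ) = 1 := by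
        rw [zpow_two]; exact hz2
      rcases Int.even_or_odd' n with ⟨k, hk | hk⟩
      · left
        show z ^ n = 1
        rw [hk, zpow_mul, h2, one_zpow]
      · right
        show z ^ n = z
        rw [hk, zpow_add, zpow_mul, h2, one_zpow, one_mul, zpow_one]
    · rintro (rfl | rfl)
      · exact Subgroup.one_mem _
      · exact Subgroup.mem_zpowers _
  have hzn : (Subgroup.zpowers z).Normal := by
    refine ⟨fun x hx g => ?_⟩
    rw [hmz] at hx ⊢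
    rcases hx with rfl | rfl
    · left; simp
    · right; rw [hzc]; simp
  let π : H →* H ⧸ Subgroup.zpowers z := QuotientGroup.mk' _
  have hπs : Function.Surjective π := QuotientGroup.mk'_surjective _
  have hπk : ∀ x, π x = 1 ↔ (x = 1 ∨ x = z) := by
    intro x
    rw [← hmz]
    exact QuotientGroup.eq_one_iff x
  have hπz : π z = 1 := (hπk z).2 (Or.inr rfl)
  have hAn : (Q.map π).Normal := hn.map π hπs
  have hAc : ∀ x ∈ Q.map π, ∀ y ∈ Q.map π, x * y = y * x := by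
    rintro _ ⟨x, hx, rfl⟩ _ ⟨y, hy, rfl⟩
    rw [← map_mul, ← map_mul]
    rcases hcomm x hx y hy with e | e
    · rw [e]
    · rw [e, map_mul π (y * x) z, hπz, mul_one]
  have hAf : FP (Q.map π) (π a) (π b) := by
    refine fp_of_gen (C := C.map π) hAn hAc ?_ ?_ ?_
    · rintro _ ⟨c, hc, rfl⟩ _ ⟨x, hx, rfl⟩
      rw [← map_inv, ← map_mul, ← map_mul]
      rcases hC c hc x hx with e | e
      · rw [e]
      · rw [e, map_mul, hπz, mul_one]
    · have h1 := congrArg (Subgroup.map π) hgen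
      rw [Subgroup.map_sup, MonoidHom.map_closure, Set.image_pair,
        Subgroup.map_top_of_surjective π hπs] at h1
      exact h1
    · intro R hRA hR
      have h1 : Q ≤ R.comap π ⊓ Q := by
        refine hQ _ inf_le_right ⟨?_, hz⟩ fun x hx h => ⟨?_, ?_⟩
        · show π z ∈ R
          rw [hπz]; exact R.one_mem
        · show π (h * x * h⁻¹ * x⁻¹) ∈ R
          simp only [map_mul, map_inv]
          exact hR _ ⟨x, hx, rfl⟩ _
        · exact Q.mul_mem (hn.conj_mem x hx h) (Q.inv_mem hx)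
      rintro _ ⟨x, hx, rfl⟩
      exact (h1 hx).1
  intro w hw
  obtain ⟨_, ⟨u, hu, rfl⟩, _, ⟨v, hv, rfl⟩, e⟩ := hAf (π w) ⟨w, hw, rfl⟩
  refine ⟨u, hu, v, hv, (u * (b * u * b⁻¹)⁻¹ * (v * (a * v * a⁻¹)⁻¹))⁻¹ * w, ?_, by group⟩
  rw [← hπk, map_mul, e]
  simp only [map_mul, map_inv]
  group

end Cfsg.Agent.H486.F4
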