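import Cfsg.Agent.TwoESix.LeviG
import Cfsg.Agent.H486.F4.Expl
import Cfsg.Agent.H486.F4.Su

/-!
# F4 of S2491: the rank of the elements of `U₆(2)` on `2²⁰` (helper486)

`E = ²E₆(2)`, `z = r0 F` a root involution, `Q = RE K = O₂(C(z)) = 2^(1+20)`.

* `pair_conj` : `E` is transitive on pairs of opposite root involutions;
* `triple_conj` : `C(z)` is transitive on the pairs of opposite root involutions in `C(z)`;
* `idx_pair` : the product of such a pair has `2⁹ ≤ |Q : C_{Q/⟨z⟩}|`;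
* `rank` : `16 < |Q : C_{Q/⟨z⟩}(h)|` for all `h ∈ C(z) \ Q`.
-/

set_option autoImplicit false
set_option linter.unusedSectionVars false

namespace Cfsg.Agent.H486.F4

open Cfsg Cfsg.Lie
open Cfsg.Agent.ChevalleyStructure
open Cfsg.Agent.ChevalleyStructure.Elts hiding x_add x_zero x_eq_one_iff
open Cfsg.Agent.ChevalleyStructure.TwE6Basic
open Cfsg.Agent.ChevalleyStructure.TwE6BN
open Cfsg.Agent.TwoESix.LeviA
open Cfsg.Agent.TwoESix.LeviB
open Cfsg.Agent.TwoESix.LeviC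
open Cfsg.Agent.TwoESix.LeviD
open Cfsg.Agent.TwoESix.LongPairs
open Cfsg.Agent.TwoESix.LongCard
open Cfsg.Agent.TwoESix.FlagH
open Cfsg.Agent.TwoESix.FlagI
open Cfsg.Agent.TwoESix.KeyExtra
open Cfsg.Agent.TwoESix.SheetA
open Cfsg.Agent.BabyU (rootClass)
open Cfsg.Agent.BabyU.RootCfg (Opp RootFacts ChartAt mem_cent IsVec)
open Cfsg.Agent.Co2Type.Quad (Large)
open Cfsg.Agent.LieClassical.HermBasic
open Cfsg.Agent.ClassicalGeometry.UnitAutBasic (tau pr pr_surjective)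
open Cfsg.Agent.ClassicalGeometry.UnitTransv (act herm_act)

universe u

variable {K : Type u} [Field K] [Fintype K] {φ : K →+* K} (F : Four K φ)
include F

theorem r0_T : r0 F ∈ rootClass K := xe_T F 71 (by decide +kernel)

theorem a6_T : a6 F ∈ rootClass K := xe_T F 60 (by decide +kernel)

theorem b6_T : b6 F ∈ rootClass K := xe_T F 11 (by decide +kernel)

theorem sqT {a : ↥(twistedE6 K 2)} (ha : a ∈ rootClass K) : a * a = 1 := by
  have := F.charP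
  obtain ⟨g, rfl⟩ := exists_conj F ha
  have h1 : r0 F * r0 F = 1 := (large F).z_sq
  calc g * r0 F * g⁻¹ * (g * r0 F * g⁻¹) = g * (r0 F * r0 F) * g⁻¹ := by group
    _ = 1 := by rw [h1]; group

theorem neT {a : ↥(twistedE6 K 2)} (ha : a ∈ rootClass K) : a ≠ 1 := by
  have := F.charP
  obtain ⟨g, rfl⟩ := exists_conj F ha
  intro h
  apply (large F).z_ne
  calc r0 F = g⁻¹ * (g * r0 F * g⁻¹) * g := by group
    _ = 1 := by rw [h]; group

/-- transitivity on opposite pairs, the second one is `(x₇₁(1), x₀(1))` -/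
theorem pair_std {a b : ↥(twistedE6 K 2)} (ha : a ∈ rootClass K) (hb : b ∈ rootClass K) (hab : Opp a b) :
    ∃ g : ↥(twistedE6 K 2), g * a * g⁻¹ = r0 F ∧ g * b * g⁻¹ = xe F 0 (by decide +kernel) := by
  have := F.charP
  obtain ⟨g, rfl⟩ := exists_conj F ha
  obtain ⟨h, rfl⟩ := exists_conj F hb
  obtain ⟨k, hk, h1, γ, hγ, h2⟩ := pair_general F g.2 h.2
  obtain ⟨hne, h3⟩ := hab
  have h1' : (⟨k, hk⟩ : ↥(twistedE6 K 2)) * (g * r0 F * g⁻¹) * (⟨k, hk⟩ : ↥(twistedE6 K 2))⁻¹ = r0 F := Subtype.ext h1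
  refine ⟨⟨k, hk⟩, h1', ?_⟩
  have h3' : (x 71 (1 : K) * x γ 1) ^ 3 = 1 := by
    have e : (⟨k, hk⟩ : ↥(twistedE6 K 2)) * ((g * r0 F * g⁻¹) * (h * r0 F * h⁻¹)) ^ 3 * (⟨k, hk⟩ : ↥(twistedE6 K 2))⁻¹ =
        (((⟨k, hk⟩ : ↥(twistedE6 K 2)) * (g * r0 F * g⁻¹) * (⟨k, hk⟩ : ↥(twistedE6 K 2))⁻¹) *
          ((⟨k, hk⟩ : ↥(twistedE6 K 2)) * (h * r0 F * h⁻¹) * (⟨k, hk⟩ : ↥(twistedE6 K 2))⁻¹)) ^ 3 := by
      rw [← conj_pow]
      congr 1
      group
    rw [h3, mul_one, mul_inv_cancel] at e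
    have e2 := congrArg Subtype.val e.symm
    have e3 : (((⟨k, hk⟩ : ↥(twistedE6 K 2)) * (g * r0 F * g⁻¹) * (⟨k, hk⟩ : ↥(twistedE6 K 2))⁻¹ : ↥(twistedE6 K 2)) :
        GL chevE6.Idx K) = x 71 1 := h1
    have e4 : (((⟨k, hk⟩ : ↥(twistedE6 K 2)) * (h * r0 F * h⁻¹) * (⟨k, hk⟩ : ↥(twistedE6 K 2))⁻¹ : ↥(twistedE6 K 2)) :
        GL chevE6.Idx K) = x γ 1 := h2
    rw [← e3, ← e4]
    exact e2
  have hne' : x 71 (1 : K) ≠ x γ 1 := by
    intro e
    apply hne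
    have e3 : (⟨k, hk⟩ : ↥(twistedE6 K 2)) * (h * r0 F * h⁻¹) * (⟨k, hk⟩ : ↥(twistedE6 K 2))⁻¹ = r0 F :=
      Subtype.ext (h2.trans e.symm)
    have e4 := h1'.trans e3.symm
    exact mul_left_cancel (mul_right_cancel e4)
  have hcom : ∀ s : ℕ, x 71 (1 : K) * x s 1 = x s 1 * x 71 1 → (x 71 (1 : K) * x s 1) ^ 3 = 1 → x 71 (1 : K) = x s 1 := by
    intro s hc h
    have e1 : (x 71 (1 : K) * x s 1) ^ 3 = x 71 1 * x s 1 := by
      have e2 : (x 71 (1 : K) * x s 1) * (x 71 1 * x s 1) = 1 := by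
        calc (x 71 (1 : K) * x s 1) * (x 71 1 * x s 1) = x 71 1 * (x s 1 * x 71 1) * x s 1 := by group
          _ = (x 71 1 * x 71 1) * (x s 1 * x s 1) := by rw [← hc]; group
          _ = 1 := by rw [sq_x, sq_x, one_mul]
      rw [pow_succ, pow_two, e2, one_mul]
    rw [e1] at h
    calc x 71 (1 : K) = x 71 1 * (x s 1 * x s 1) := by rw [sq_x, mul_one]
      _ = (x 71 1 * x s 1) * x s 1 := by group
      _ = x s 1 := by rw [h, one_mul]
  simp only [List.mem_cons, List.not_mem_nil, or_false] at hγ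
  rcases hγ with rfl | rfl | rfl | rfl | rfl
  · exact absurd rfl hne'
  · exact absurd (hcom 70 (comm_top (r := 70) (by decide) 1 1) h3') hne'
  · exact absurd (hcom 60 (comm_top (r := 60) (by decide) 1 1) h3') hne'
  · exfalso
    have e1 := sq25 (K := K)
    have e2 : x 70 (1 : K) * (x 71 1 * x 25 1) = 1 := by rw [← e1, ← pow_succ]; exact h3'
    have e3 : x 71 (1 : K) * x 25 1 = x 70 1 := by
      calc x 71 (1 : K) * x 25 1 = (x 70 1 * x 70 1) * (x 71 1 * x 25 1) := by rw [sq_x, one_mul]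
        _ = x 70 1 * (x 70 1 * (x 71 1 * x 25 1)) := by group
        _ = x 70 1 := by rw [e2, mul_one]
    rw [e3, pow_two, sq_x] at e1
    exact x_ne_one (K := K) (r := 70) (by norm_num) e1.symm
  · exact Subtype.ext h2

/-- **transitivity on opposite pairs** -/
theorem pair_conj {a b a' b' : ↥(twistedE6 K 2)} (ha : a ∈ rootClass K) (hb : b ∈ rootClass K) (hab : Opp a b)
    (ha' : a' ∈ rootClass K) (hb' : b' ∈ rootClass K) (hab' : Opp a' b') :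
    ∃ g : ↥(twistedE6 K 2), g * a * g⁻¹ = a' ∧ g * b * g⁻¹ = b' := by
  obtain ⟨g, h1, h2⟩ := pair_std F ha hb hab
  obtain ⟨g', h1', h2'⟩ := pair_std F ha' hb' hab'
  refine ⟨g'⁻¹ * g, ?_, ?_⟩
  · calc g'⁻¹ * g * a * (g'⁻¹ * g)⁻¹ = g'⁻¹ * (g * a * g⁻¹) * g' := by group
      _ = a' := by rw [h1, ← h1']; group
  · calc g'⁻¹ * g * b * (g'⁻¹ * g)⁻¹ = g'⁻¹ * (g * b * g⁻¹) * g' := by group
      _ = b' := by rw [h2, ← h2']; group

/-- `x₆₀(1)` and `x₁₁(1)` are opposite -/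
theorem opp6 : Opp (a6 F) (b6 F) := by
  have := F.charP
  have hw1 : wpm [0, 1, 2, 1, 0] 71 = 60 := by decide +kernel
  have hw2 : wpm [0, 1, 2, 1, 0] 0 = 11 := by decide +kernel
  have h1 := wn_conj (K := K) [0, 1, 2, 1, 0] 71 1
  have h2 := wn_conj (K := K) [0, 1, 2, 1, 0] 0 1
  rw [hw1] at h1
  rw [hw2] at h2
  constructor
  · intro h
    have h3 : x (60 : Fin 72).val (1 : K) = x (11 : Fin 72).val 1 := congrArg Subtype.val h
    exact x_ne (K := K) (r := 60) (s := 11) (by norm_num) (by norm_num) (by norm_num) h3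
  · apply Subtype.ext
    show (x (60 : Fin 72).val (1 : K) * x (11 : Fin 72).val 1) ^ 3 = 1
    rw [← h1, ← h2]
    have e : wn [0, 1, 2, 1, 0] * x (71 : Fin 72).val (1 : K) * (wn [0, 1, 2, 1, 0])⁻¹ *
        (wn [0, 1, 2, 1, 0] * x (0 : Fin 72).val 1 * (wn [0, 1, 2, 1, 0])⁻¹) =
        wn [0, 1, 2, 1, 0] * (x (71 : Fin 72).val (1 : K) * x (0 : Fin 72).val 1) * (wn [0, 1, 2, 1, 0])⁻¹ := by group
    rw [e, conj_pow]
    have := cube0 (K := K)
    show wn [0, 1, 2, 1, 0] * (x 71 (1 : K) * x 0 1) ^ 3 * (wn [0, 1, 2, 1, 0])⁻¹ = 1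
    rw [this, mul_one, mul_inv_cancel]

/-- **`C(z)` is transitive on the opposite pairs in `C(z)`** -/
theorem triple_conj {a b : ↥(twistedE6 K 2)} (ha : a ∈ rootClass K) (hb : b ∈ rootClass K) (hab : Opp a b)
    (haz : a * r0 F = r0 F * a) (hbz : b * r0 F = r0 F * b) :
    ∃ g : ↥(twistedE6 K 2), g * r0 F = r0 F * g ∧ g * a * g⁻¹ = a6 F ∧ g * b * g⁻¹ = b6 F := by
  have hF : Fintype.card K = 2 ^ 2 := by rw [F.card]; norm_num
  have RF := Cfsg.Agent.TwoESix.LeviG.rootFacts F.card hF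
  obtain ⟨g, h1, h2⟩ := pair_conj F ha hb hab (a6_T F) (b6_T F) (opp6 F)
  obtain ⟨ψ, C⟩ := RF.chart (a6 F) (a6_T F)
  set r' := g * r0 F * g⁻¹ with hr'
  have hrT : r' ∈ rootClass K := RF.conj _ (r0_T F) g
  have hra : r' * a6 F = a6 F * r' := by
    rw [hr', ← h1]
    calc g * r0 F * g⁻¹ * (g * a * g⁻¹) = g * (r0 F * a) * g⁻¹ := by group
      _ = g * (a * r0 F) * g⁻¹ := by rw [haz]
      _ = _ := by group
  have hrb : r' * b6 F = b6 F * r' := by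
    rw [hr', ← h2]
    calc g * r0 F * g⁻¹ * (g * b * g⁻¹) = g * (r0 F * b) * g⁻¹ := by group
      _ = g * (b * r0 F) * g⁻¹ := by rw [hbz]
      _ = _ := by group
  have h6a : a6 F * r0 F = r0 F * a6 F := ab F
  have h6b : b6 F * r0 F = r0 F * b6 F :=
    (co F (p := 11) (q := 71) (by decide +kernel) (by decide +kernel) (by decide +kernel)).symm
  obtain ⟨v, v0, vv, mv, ev⟩ := C.exists_vec RF (b6_T F) (opp6 F) hrT hra hrb
  obtain ⟨w, w0, ww, mw, ew⟩ := C.exists_vec RF (b6_T F) (opp6 F) (r0_T F) h6a.symm h6b.symm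
  obtain ⟨u, c, hc, hu⟩ := Cfsg.Agent.SporadicStructure.UnitTwo.exists_map hF v w v0 w0 vv ww
  obtain ⟨k, hk, ek⟩ := C.surj _ (b6_T F) (opp6 F) (pr 6 K 2 u)
  have hk' := mem_cent.1 k.2
  have e1 : (k : ↥(twistedE6 K 2)) * r' * (k : ↥(twistedE6 K 2))⁻¹ = r0 F := by
    have hm : (k : ↥(twistedE6 K 2)) * r' * (k : ↥(twistedE6 K 2))⁻¹ ∈ Subgroup.centralizer ({a6 F} : Set ↥(twistedE6 K 2)) :=
      mul_mem (mul_mem k.2 mv) (inv_mem k.2)
    refine C.inj' (b6_T F) (opp6 F) hm mw ?_ h6b.symm ?_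
    · exact ((Commute.mul_left (show Commute (k : ↥(twistedE6 K 2)) (b6 F) from hk) (show Commute r' (b6 F) from hrb)).mul_left
        (show Commute (k : ↥(twistedE6 K 2)) (b6 F) from hk).inv_left).eq
    · have e2 : (⟨(k : ↥(twistedE6 K 2)) * r' * (k : ↥(twistedE6 K 2))⁻¹, hm⟩ :
          ↥(Subgroup.centralizer ({a6 F} : Set ↥(twistedE6 K 2)))) = k * ⟨r', mv⟩ * k⁻¹ := rfl
      rw [e2, map_mul, map_mul, map_inv, ek, ev, Cfsg.Agent.R01.PSUSix.conj_tau hF u vv, hu,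
        Cfsg.Agent.R01.PSUSix.tau_smul hF ww hc, ew]
  refine ⟨k * g, ?_, ?_, ?_⟩
  · have e3 : (k : ↥(twistedE6 K 2)) * g * r0 F * ((k : ↥(twistedE6 K 2)) * g)⁻¹ = r0 F := by
      calc (k : ↥(twistedE6 K 2)) * g * r0 F * ((k : ↥(twistedE6 K 2)) * g)⁻¹
            = k * (g * r0 F * g⁻¹) * (k : ↥(twistedE6 K 2))⁻¹ := by group
        _ = r0 F := e1
    exact mul_inv_eq_iff_eq_mul.1 e3
  · calc (k : ↥(twistedE6 K 2)) * g * a * ((k : ↥(twistedE6 K 2)) * g)⁻¹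
          = k * (g * a * g⁻¹) * (k : ↥(twistedE6 K 2))⁻¹ := by group
      _ = a6 F := by rw [h1, hk', mul_inv_cancel_right]
  · calc (k : ↥(twistedE6 K 2)) * g * b * ((k : ↥(twistedE6 K 2)) * g)⁻¹
          = k * (g * b * g⁻¹) * (k : ↥(twistedE6 K 2))⁻¹ := by group
      _ = b6 F := by rw [h2, hk, mul_inv_cancel_right]

/-- the product of two opposite root involutions in `C(z)` -/
theorem idx_pair {a b : ↥(twistedE6 K 2)} (ha : a ∈ rootClass K) (hb : b ∈ rootClass K) (hab : Opp a b)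
    (haz : a * r0 F = r0 F * a) (hbz : b * r0 F = r0 F * b) : 2 ^ 9 ≤ idx (large F) (a * b) := by
  have : Finite ↥(twistedE6 K 2) := finite_E
  obtain ⟨g, h1, h2, h3⟩ := triple_conj F ha hb hab haz hbz
  rw [← idx_conj (large F) h1 (a * b)]
  have e : g * (a * b) * g⁻¹ = a6 F * b6 F := by rw [← h2, ← h3]; group
  rw [e]
  exact idx_s F

/-- **the rank** -/
theorem rank {h : ↥(twistedE6 K 2)} (hz : h * r0 F = r0 F * h) (hn : h ∉ RE K) : 16 < idx (large F) h := by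
  have : Finite ↥(twistedE6 K 2) := finite_E
  have hF : Fintype.card K = 2 ^ 2 := by rw [F.card]; norm_num
  have RF := Cfsg.Agent.TwoESix.LeviG.rootFacts F.card hF
  obtain ⟨ψ, C⟩ := RF.chart (r0 F) (r0_T F)
  -- the kernel of the chart
  have hker : ∀ (y : ↥(twistedE6 K 2)) (hy : y ∈ Subgroup.centralizer ({r0 F} : Set ↥(twistedE6 K 2))),
      ψ ⟨y, hy⟩ = 1 → y ∈ RE K := by
    intro y hy h1
    obtain ⟨M, h2, h3, h4, h5⟩ := ker_sub C ⟨y, hy⟩ h1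
    exact R_max F M h3 h4 h5 h2
  have hm := mem_cent.2 hz
  obtain ⟨g, hg⟩ := pr_surjective (ψ ⟨h, hm⟩)
  have hgc : g ∉ Subgroup.center (SU 6 K 2) := by
    intro hc
    apply hn
    apply hker h hm
    rw [← hg]
    exact (QuotientGroup.eq_one_iff g).2 hc
  obtain ⟨v, vv, hv⟩ := exists_iso hF hgc
  have v0 : v ≠ 0 := by
    rintro rfl
    exact hv (herm_zero_right hF _)
  have ww : hermForm 6 K 2 (act g v) (act g v) = 0 := by rw [herm_act, vv]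
  have w0 : act g v ≠ 0 := by
    intro h0
    rw [h0, herm_zero_left] at hv
    exact hv rfl
  -- an opposite root involution
  obtain ⟨r, hr, s, hs, hrs⟩ := RF.opp
  obtain ⟨x0, hx0⟩ := RF.one r hr (r0 F) (r0_T F)
  have hs0 : Opp (r0 F) (x0 * s * x0⁻¹) := by
    refine ⟨?_, ?_⟩
    · intro e
      apply hrs.1
      rw [← hx0] at e
      exact mul_left_cancel (mul_right_cancel e)
    · rw [← hx0]
      have e : x0 * r * x0⁻¹ * (x0 * s * x0⁻¹) = x0 * (r * s) * x0⁻¹ := by group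
      rw [e, conj_pow, hrs.2, mul_one, mul_inv_cancel]
  have hsT := RF.conj s hs x0
  generalize x0 * s * x0⁻¹ = s' at hs0 hsT
  obtain ⟨b, hb, hbs, -, -, mb, eb⟩ := C.exists_root hsT hs0 v0 vv
  obtain ⟨a, ha, has, hav⟩ := C.exists_root hsT hs0 w0 ww
  have hbv : IsVec hF ψ b v := ⟨v0, vv, mb, eb⟩
  obtain ⟨-, -, ma, ea⟩ := id hav
  have haz := mem_cent.1 ma
  have hbz := mem_cent.1 mb
  have hnc : a * b ≠ b * a := fun hc => hv ((C.comm_iff hsT hs0 hav hbv has hbs).1 hc)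
  have hopp : Opp a b := by
    refine ⟨fun e => hnc (by rw [e]), ?_⟩
    rcases C.three RF hsT hs0 ha haz has hb hbz hbs with h1 | h1
    · exact absurd h1 hnc
    · exact h1
  have h9 := idx_pair F ha hb hopp haz hbz
  -- the commutator
  have e : h * b * h⁻¹ * b⁻¹ = (a * b) * ((a * b)⁻¹ * (h * b * h⁻¹ * b⁻¹)) := by group
  have hq : (a * b)⁻¹ * (h * b * h⁻¹ * b⁻¹) ∈ RE K := by
    have hm' : (a * b)⁻¹ * (h * b * h⁻¹ * b⁻¹) ∈ Subgroup.centralizer ({r0 F} : Set ↥(twistedE6 K 2)) :=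
      mul_mem (inv_mem (mul_mem ma mb)) (mul_mem (mul_mem (mul_mem hm mb) (inv_mem hm)) (inv_mem mb))
    refine hker _ hm' ?_
    have e2 : (⟨(a * b)⁻¹ * (h * b * h⁻¹ * b⁻¹), hm'⟩ : ↥(Subgroup.centralizer ({r0 F} : Set ↥(twistedE6 K 2)))) =
        (⟨a, ma⟩ * ⟨b, mb⟩)⁻¹ * (⟨h, hm⟩ * ⟨b, mb⟩ * ⟨h, hm⟩⁻¹ * ⟨b, mb⟩⁻¹) := rfl
    rw [e2, map_mul, map_inv, map_mul, map_mul, map_mul, map_mul, map_inv, map_inv, ea, eb, ← hg,
      Cfsg.Agent.R01.PSUSix.conj_tau hF g vv, Cfsg.Agent.R01.PSUSix.tau_inv hF vv, inv_mul_cancel]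
  have habz : (a * b) * r0 F = r0 F * (a * b) := by rw [mul_assoc, hbz, ← mul_assoc, haz, mul_assoc]
  have h10 := idx_comm (large F) hz hbz
  rw [e, idx_mul_right (large F) habz hq] at h10
  have h11 := h9.trans h10
  by_contra hlt
  have h12 : idx (large F) h ≤ 16 := by omega
  have h13 : idx (large F) h ^ 2 ≤ 16 ^ 2 := Nat.pow_le_pow_left h12 2
  omega

end Cfsg.Agent.H486.F4
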