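import Cfsg.Agent.H594.QF.Cent
import Cfsg.Agent.TwoESix.SheetMM
import Cfsg.Agent.H486.F4.Rank

/-!
# S2491, row F4, box K7 (helper486)

* `V_eq_RE` : the unipotent radical `V φ j1` of the RGD model is `RE F` of `TwoESix`; `mem_X_th`;
* `rank_ge` : noncentral elements of `SU₆(2)` have rank `≥ 5` on `V_1 / X_θ`.
-/

set_option autoImplicit false
set_option linter.unusedSectionVars false

namespace Cfsg.Agent.H486.F4

open CoxeterSystem Cfsg.Agent.ChevalleyStructure.CoxeterGeom Cfsg.Agent.Tits.Roots Cfsg.Agent.Tits.Core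
  Cfsg.Agent.Nodes Cfsg.Agent.Nodes.Reps Cfsg.Agent.Nodes.BNOf Cfsg.Agent.Nodes.RGDLib Cfsg.Agent.Nodes.Bruhat
  Cfsg.Agent.Nodes.OppDec Cfsg.Agent.Nodes.LeviDec Cfsg.Agent.Nodes.StabComb
open Cfsg.Lie Subgroup
open Cfsg.Agent.ChevalleyStructure.TwistedU (rspan rspan_le mem_rspan)
open Cfsg.Agent.ChevalleyStructure.TwE6Basic (x twisted_le_fix)
open Cfsg.Agent.TwoESix.LeviA (Four)
open Cfsg.Agent.TwoESix.LongCard (r0)
open Cfsg.Agent.H231.QF (KK cs th j1)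

universe u

variable {F : Type u} [Field F] [Fintype F] (hF : Fintype.card F = 4) {φ : F →+* F} (hφ : ∀ t, φ t = t ^ 2)

theorem tabV : ∀ k : Fin 72, 0 < RGDFold.V chevE6 RGDTwE6.J k.val 0 →
    36 ≤ k.val ∧ ¬ chevE6.InRootSub {j | j ∈ Cfsg.Agent.TwoESix.LeviB.Jn} k.val := by decide +kernel

theorem tabTh : ∀ k : Fin 72, RGDFold.V chevE6 RGDTwE6.J k.val = th ↔ k.val = 71 := by decide +kernel

include hF hφ in
theorem four : Four F φ where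
  card := hF
  sq := hφ
  inv t := by
    rw [hφ, hφ]
    exact Cfsg.Agent.H594.QF.hqq hF t

theorem V_le_RE : Cfsg.Agent.H231.QF.V φ j1 ≤ Cfsg.Agent.TwoESix.FlagH.RE F := by
  refine RGD.Sup_le fun z hz => ?_
  obtain ⟨-, -, k, hk, hk0⟩ := hz
  have hk' : k = 0 := by
    by_contra h
    exact hk h
  subst hk'
  have h1 : RGDFold.R chevE6 RGDTwE6.hp F RGDTwE6.J (Cfsg.Agent.ChevalleyStructure.TwE6Basic.sg φ) z ≤
      Cfsg.Agent.TwoESix.LeviA.UR F Cfsg.Agent.TwoESix.LeviB.Jn := by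
    refine inf_le_left.trans (rspan_le _ fun s hs t => ?_)
    obtain ⟨hs1, hs2⟩ := hs
    have h3 := tabV ⟨s, hs1⟩ (by rw [hs2]; exact hk0)
    exact Cfsg.Agent.TwoESix.LeviA.x_mem_UR (r := ⟨s, hs1⟩) h3.1 h3.2 t
  exact Subgroup.comap_mono h1

include hF hφ in
/-- `X_θ = {1, r0}` -/
theorem mem_X_th {y : KK F} : y ∈ Cfsg.Agent.H231.QF.X φ th ↔ y = 1 ∨ y = r0 (four hF hφ) := by
  constructor
  · intro hy
    refine Cfsg.Agent.TwoESix.FlagI.X71_E (four hF hφ) ?_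
    have h1 : (y : Matrix.GeneralLinearGroup chevE6.Idx F) ∈ RGDFold.R chevE6 RGDTwE6.hp F RGDTwE6.J
      (Cfsg.Agent.ChevalleyStructure.TwE6Basic.sg φ) th := Subgroup.mem_subgroupOf.1 hy
    have h2 := (Subgroup.mem_inf.1 h1).1
    refine (rspan_le _ (H := chevE6.rootSubgroup F 71) fun s hs t => ?_) h2
    obtain ⟨hs1, hs2⟩ := hs
    have h3 : s = 71 := (tabTh ⟨s, hs1⟩).1 hs2
    subst h3
    exact Cfsg.Agent.ChevalleyStructure.TwE6Basic.mem_X.2 ⟨t, rfl⟩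
  · rintro (rfl | rfl)
    · exact one_mem _
    · refine Subgroup.mem_subgroupOf.2 (Subgroup.mem_inf.2 ⟨?_, ?_⟩)
      · exact mem_rspan (Cfsg.Agent.ChevalleyStructure.Elts.xG RGDTwE6.hp.inList) (S := {k | k < chevE6.nroots ∧ RGDFold.V chevE6 RGDTwE6.J k = th}) (r := 71) ⟨by decide +kernel, (tabTh 71).2 rfl⟩ 1
      · exact twisted_le_fix φ hφ (Cfsg.Agent.H594.QF.hqq hF) (r0 (four hF hφ)).2

include hF hφ in
theorem V_eq_RE : Cfsg.Agent.H231.QF.V φ j1 = Cfsg.Agent.TwoESix.FlagH.RE F := by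
  have : Finite (KK F) := Cfsg.Agent.TwoESix.LongCard.finite_E
  refine Subgroup.eq_of_le_of_card_ge V_le_RE ?_
  rw [(Cfsg.Agent.H594.QF.V1_struct hF hφ).2.2.2]
  exact Cfsg.Agent.TwoESix.SheetMM.card_RE_le (four hF hφ)

include hF hφ in
/-- elements of `P₁` commute with `r0` -/
theorem comm_r0_of_P {y : KK F} (hy : y ∈ Cfsg.Agent.H231.QF.P φ j1) :
    y * r0 (four hF hφ) = r0 (four hF hφ) * y := by
  have h1 := Cfsg.Agent.H594.QF.centralizer_eq hF hφ ((mem_X_th hF hφ).2 (Or.inr rfl))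
    (Cfsg.Agent.TwoESix.SheetA.large (four hF hφ)).z_ne
  rw [← h1] at hy
  exact Subgroup.mem_centralizer_singleton_iff.1 hy

include hF hφ in
/-- **rank `≥ 5` for all elements of `P₁ \ V₁`** -/
theorem rank_P {y : KK F} (hy : y ∈ Cfsg.Agent.H231.QF.P φ j1) (hn : y ∉ Cfsg.Agent.H231.QF.V φ j1) :
    32 * Nat.card {x : KK F // x ∈ Cfsg.Agent.H231.QF.V φ j1 ∧ y * x * y⁻¹ * x⁻¹ ∈ Cfsg.Agent.H231.QF.X φ th} ≤
      Nat.card (Cfsg.Agent.H231.QF.V φ j1) := by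
  have : Finite (KK F) := Cfsg.Agent.TwoESix.LongCard.finite_E
  set F4 := four hF hφ
  have hz := comm_r0_of_P hF hφ hy
  have hc := (Cfsg.Agent.H594.QF.V1_struct hF hφ).2.2.2
  rw [V_eq_RE hF hφ] at hn hc
  have h16 := rank F4 hz hn
  have hL := Cfsg.Agent.TwoESix.SheetA.large F4
  have hm := idx_mul_card hL y
  rw [hc] at hm
  have hd : idx hL y ∣ 2 ^ 21 := ⟨_, hm.symm⟩
  obtain ⟨k, -, hk⟩ := (Nat.dvd_prime_pow Nat.prime_two).1 hd
  have h32 : 32 ≤ idx hL y := by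
    rw [hk] at h16 ⊢
    have h5 : 5 ≤ k := by
      by_contra hlt
      have : 2 ^ k ≤ 2 ^ 4 := Nat.pow_le_pow_right (by norm_num) (by omega)
      omega
    exact Nat.pow_le_pow_right (n := 2) (by norm_num) h5
  have e : Nat.card {x : KK F // x ∈ Cfsg.Agent.H231.QF.V φ j1 ∧ y * x * y⁻¹ * x⁻¹ ∈ Cfsg.Agent.H231.QF.X φ th} =
      Nat.card (cen hL y) := by
    refine Nat.card_congr (Equiv.subtypeEquivRight fun x => ?_)
    rw [V_eq_RE hF hφ, mem_X_th hF hφ, mem_cen]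
    refine and_congr_right fun hx => or_congr mul_inv_eq_one ?_
    rw [mul_inv_eq_iff_eq_mul, hL.comm_z x hx]
  rw [e, V_eq_RE hF hφ, hc, ← hm]
  exact Nat.mul_le_mul_right _ h32

include hF hφ in
/-- **K7** -/
theorem rank_ge {f : SU 6 F 2 →* KK F} (hf : f.range = Cfsg.Agent.H231.QF.Lv φ j1)
    (hk : f.ker = center (SU 6 F 2)) (h : SU 6 F 2) (hh : h ∉ center (SU 6 F 2)) :
    32 * Nat.card {x : KK F // x ∈ Cfsg.Agent.H231.QF.V φ j1 ∧ f h * x * (f h)⁻¹ * x⁻¹ ∈ Cfsg.Agent.H231.QF.X φ th} ≤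
      Nat.card (Cfsg.Agent.H231.QF.V φ j1) := by
  have hl : f h ∈ Cfsg.Agent.H231.QF.Lv φ j1 := by rw [← hf]; exact ⟨h, rfl⟩
  refine rank_P hF hφ (LJ_le_PJ hl) fun hV => hh ?_
  obtain ⟨p, hp'⟩ := CharP.exists F
  have : Fact p.Prime := ⟨CharP.char_is_prime F p⟩
  have R := RGDTwE6.rgd cs hφ (Cfsg.Agent.H594.QF.hqq hF) p
  have hW : Finite CoxeterMatrix.F₄.Group := Cfsg.Agent.KFacts.TwESix.Comb.finiteW cs
  have h1 : f h ∈ Cfsg.Agent.H231.QF.Lv φ j1 ⊓ Cfsg.Agent.H231.QF.V φ j1 := ⟨hl, hV⟩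
  rw [LJ_inf_VJ R j1, Subgroup.mem_bot] at h1
  rw [← hk]
  exact h1

end Cfsg.Agent.H486.F4
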